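import Mathlib
import Groth.Prelude.Def_PolLaw

/-!
Spanning the degree `d` piece of the divided power algebra by the `γ_d(m)`.
-/

universe u

open DividedPowerAlgebra

namespace SpanDpLib

/-- `D` elements with pairwise distinct residues modulo `p`, from the size of the residue field. -/
lemma exists_sub_notMem {A : Type u} [CommRing A] (p : Ideal A) [p.IsPrime] (d : ℕ)
    (h : (d : Cardinal) ≤ Cardinal.mk p.ResidueField) :
    ∃ a : Fin d → A, ∀ i j, i ≠ j → a i - a j ∉ p := by
  obtain ⟨f⟩ : Nonempty (Fin d ↪ A ⧸ p) := by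
    rcases finite_or_infinite (A ⧸ p) with hf | hf
    · have : p.IsMaximal := Ideal.Quotient.maximal_of_isField _ (Finite.isField_of_domain _)
      have hb : Function.Bijective (algebraMap (A ⧸ p) p.ResidueField) :=
        p.bijective_algebraMap_quotient_residueField
      rw [← Cardinal.mk_congr (Equiv.ofBijective _ hb)] at h
      obtain ⟨e⟩ := Cardinal.lift_mk_le'.1 (show Cardinal.lift.{u} (Cardinal.mk (Fin d)) ≤
        Cardinal.lift.{0} (Cardinal.mk (A ⧸ p)) by simpa using h)
      exact ⟨e⟩
    · exact ⟨Function.Embedding.trans ⟨Fin.val, Fin.val_injective⟩ (Infinite.natEmbedding _)⟩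
  choose a ha using fun i => Ideal.Quotient.mk_surjective (f i)
  refine ⟨a, fun i j hij hmem => hij (f.injective ?_)⟩
  rw [← ha i, ← ha j]
  exact Ideal.Quotient.eq.2 hmem

variable {A M : Type u} [CommRing A] [AddCommGroup M] [Module A M]

variable (A M) in
/-- span of the `D`-th divided powers -/
noncomputable def spanDp (D : ℕ) : Submodule A (DividedPowerAlgebra A M) :=
  Submodule.span A (Set.range (dp A D : M → DividedPowerAlgebra A M))

lemma dp_mem (D : ℕ) (m : M) : dp A D m ∈ spanDp A M D := Submodule.subset_span ⟨m, rfl⟩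

/-- Local version at a prime: a multiple outside `p` of `γ_i(x) γ_j(y)` is in the span. -/
lemma exists_smul_pair_mem (p : Ideal A) [p.IsPrime] (i j : ℕ) (x y : M)
    (h : ((i + j : ℕ) : Cardinal) ≤ Cardinal.mk p.ResidueField ∨
      ∃ z : LocalizedModule p.primeCompl M,
        Submodule.span (Localization.AtPrime p) {z} = ⊤) :
    ∃ s : A, s ∉ p ∧ s • (dp A i x * dp A j y) ∈ spanDp A M (i + j) := by
  rcases h with h | ⟨z, hz⟩
  · obtain ⟨D, hD⟩ : ∃ D, D = i + j := ⟨_, rfl⟩
    rw [← hD] at h ⊢
    obtain ⟨a, ha⟩ := exists_sub_notMem p D h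
    rcases Nat.eq_zero_or_pos i with hi | hi
    · refine ⟨1, p.ne_top_iff_one.1 (Ideal.IsPrime.ne_top inferInstance), ?_⟩
      subst hi
      simpa [dp_zero, hD] using dp_mem (A := A) j y
    -- the terms
    let P : Fin D → DividedPowerAlgebra A M := fun l => dp A (D - l) x * dp A l y
    let V : Matrix (Fin D) (Fin D) A := Matrix.vandermonde a
    have hV : ∀ r : Fin D, (∑ l, V r l • P l) ∈ spanDp A M D := by
      intro r
      have h1 : dp A D (x + a r • y) = (∑ l, V r l • P l) + a r ^ D • dp A D y := by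
        rw [dp_add, ← Finset.Nat.sum_antidiagonal_swap,
          Finset.Nat.sum_antidiagonal_eq_sum_range_succ_mk, Finset.sum_range_succ]
        congr 1
        · rw [Finset.sum_range]
          refine Finset.sum_congr rfl fun l _ => ?_
          simp [V, P, dp_smul]
        · simp [dp_smul, dp_zero]
      rw [eq_sub_of_add_eq h1.symm]
      exact Submodule.sub_mem _ (dp_mem _ _) (Submodule.smul_mem _ _ (dp_mem _ _))
    have hP : ∀ c : Fin D, V.det • P c ∈ spanDp A M D := by
      intro c
      have : V.det • P c = ∑ r, V.adjugate c r • (∑ l, V r l • P l) := by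
        simp_rw [Finset.smul_sum, smul_smul]
        rw [Finset.sum_comm]
        simp_rw [← Finset.sum_smul, ← Matrix.mul_apply, Matrix.adjugate_mul,
          Matrix.smul_apply, Matrix.one_apply]
        simp
      rw [this]
      exact Submodule.sum_mem _ fun r _ => Submodule.smul_mem _ _ (hV r)
    refine ⟨V.det, ?_, ?_⟩
    · rw [Matrix.det_vandermonde]
      intro hmem
      obtain ⟨r, -, hr⟩ := (Ideal.IsPrime.prod_mem_iff (p := p)).1 hmem
      obtain ⟨c, hc, hrc⟩ := (Ideal.IsPrime.prod_mem_iff (p := p)).1 hr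
      exact ha c r (Finset.mem_Ioi.1 hc).ne' hrc
    · have := hP ⟨j, by omega⟩
      simpa [P, hD] using this
  · obtain ⟨⟨m₀, s₀⟩, rfl⟩ : ∃ q : M × p.primeCompl, LocalizedModule.mk q.1 q.2 = z := by
      induction z using LocalizedModule.induction_on with
      | _ m s => exact ⟨(m, s), rfl⟩
    have key : ∀ m : M, ∃ t : A, t ∉ p ∧ ∃ b : A, t • m = b • m₀ := by
      intro m
      obtain ⟨c, hc⟩ := Submodule.mem_span_singleton.1
        (hz ▸ Submodule.mem_top : LocalizedModule.mk m (1 : p.primeCompl) ∈
          Submodule.span (Localization.AtPrime p) {LocalizedModule.mk m₀ s₀})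
      induction c using Localization.induction_on with
      | H c =>
        obtain ⟨b, t⟩ := c
        rw [LocalizedModule.mk_smul_mk, LocalizedModule.mk_eq] at hc
        obtain ⟨w, hw⟩ := hc
        simp only [Submonoid.smul_def, Submonoid.coe_mul, OneMemClass.coe_one, one_smul,
          smul_smul] at hw
        exact ⟨w * (t * s₀), mul_mem (s := p.primeCompl) w.2 (mul_mem t.2 s₀.2), w * b, hw.symm⟩
    obtain ⟨t, ht, b, hb⟩ := key x
    obtain ⟨t', ht', b', hb'⟩ := key y
    refine ⟨t ^ i * t' ^ j, mul_mem (s := p.primeCompl) (pow_mem ht _) (pow_mem ht' _), ?_⟩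
    have : (t ^ i * t' ^ j) • (dp A i x * dp A j y) = dp A i (t • x) * dp A j (t' • y) := by
      rw [dp_smul, dp_smul, smul_mul_smul_comm]
    rw [this, hb, hb', dp_smul, dp_smul, smul_mul_smul_comm, dp_mul]
    exact Submodule.smul_mem _ _ (nsmul_mem (dp_mem _ _) _)

theorem span_dp_eq_gammaPiece (d : ℕ)
    (h : ∀ p : PrimeSpectrum A, (d : Cardinal) ≤ Cardinal.mk p.asIdeal.ResidueField ∨
      ∃ x : LocalizedModule p.asIdeal.primeCompl M,
        Submodule.span (Localization.AtPrime p.asIdeal) {x} = ⊤) :
    Submodule.span A (Set.range (dp A d : M → DividedPowerAlgebra A M)) =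
      PolLaw.gammaPiece A M d := by
  refine le_antisymm (Submodule.span_le.2 ?_) (Submodule.span_le.2 ?_)
  · rintro _ ⟨m, rfl⟩
    exact Submodule.subset_span ⟨1, fun _ => d, fun _ => m, by simp, by simp⟩
  have pair : ∀ i j x y, i + j ≤ d → dp A i x * dp A j y ∈ spanDp A M (i + j) := by
    intro i j x y hij
    by_contra hn
    obtain ⟨p, hp, hle⟩ := Ideal.exists_le_maximal
      ((spanDp A M (i + j)).colon {dp A i x * dp A j y})
      (fun htop => hn (by
        have h1 := Submodule.mem_colon_singleton.1 ((Ideal.eq_top_iff_one _).1 htop)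
        rwa [one_smul] at h1))
    have := hp.isPrime
    obtain ⟨s, hs, hmem⟩ := exists_smul_pair_mem p i j x y
      ((h ⟨p, inferInstance⟩).imp_left fun h' => le_trans (by exact_mod_cast hij) h')
    exact hs (hle (Submodule.mem_colon_singleton.2 hmem))
  suffices ∀ (n : ℕ) (k : Fin n → ℕ) (m : Fin n → M), (∑ i, k i) ≤ d →
      (∏ i, dp A (k i) (m i)) ∈ spanDp A M (∑ i, k i) by
    rintro _ ⟨n, k, m, hk, rfl⟩
    exact hk ▸ this n k m hk.le
  intro n
  induction n with
  | zero => intro k m _; simpa [dp_zero] using dp_mem (A := A) 0 (0 : M)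
  | succ n ih =>
    intro k m hk
    rw [Fin.sum_univ_succ] at hk ⊢
    rw [Fin.prod_univ_succ]
    have := ih (fun i => k i.succ) (fun i => m i.succ) (by omega)
    revert this
    generalize (∏ i : Fin n, dp A (k i.succ) (m i.succ)) = P
    intro hP
    induction hP using Submodule.span_induction with
    | mem v hv => obtain ⟨y, rfl⟩ := hv; exact pair _ _ _ _ hk
    | zero => simp
    | add a b _ _ ha hb => rw [mul_add]; exact add_mem ha hb
    | smul c a _ ha => rw [mul_smul_comm]; exact Submodule.smul_mem _ c ha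

end SpanDpLib
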