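import Mathlib
import Groth.Agent.SpanDpLib.Basic

/-!
If the `γ_d(m)` span `Γ^d(M)`, residue fields have `≥ d` elements at non-cyclic points.
-/

universe u

open DividedPowerAlgebra Polynomial

namespace SpanDpLib

variable {R M : Type u} [CommRing R] [AddCommGroup M] [Module R M]
variable {T : Type u} [CommRing T] [Algebra R T] {ι : Type*} [Fintype ι]

/-- the generating polynomial `∏ (1 + ℓ_s t)` -/
noncomputable def genPoly (ℓ : ι → M →ₗ[R] T) (m : M) : T[X] :=
  ∏ s, (1 + C (ℓ s m) * X)

lemma genPoly_comp_add (ℓ : ι → M →ₗ[R] T) (hsq : ∀ s m m', ℓ s m * ℓ s m' = 0) (m : M) :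
    ((genPoly ℓ m).map C).comp (X + C X) = (genPoly ℓ m).map C * C (genPoly ℓ m) := by
  simp only [genPoly, Polynomial.map_prod, Polynomial.prod_comp, map_prod]
  rw [← Finset.prod_mul_distrib]
  refine Finset.prod_congr rfl fun s _ => ?_
  simp only [Polynomial.map_add, Polynomial.map_one, Polynomial.map_mul, map_C, map_X,
    add_comp, one_comp, mul_comp, C_comp, X_comp, map_add, map_one, map_mul]
  have h0 : C (C (ℓ s m)) * C (C (ℓ s m)) = (0 : T[X][X]) := by
    rw [← map_mul, ← map_mul, hsq, map_zero, map_zero]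
  linear_combination (-1 : T[X][X]) * X * C X * h0

/-- the map out of the divided power algebra given by elementary symmetric functions of `ℓ_s` -/
noncomputable def symmLift (ℓ : ι → M →ₗ[R] T) (hsq : ∀ s m m', ℓ s m * ℓ s m' = 0) :
    DividedPowerAlgebra R M →ₐ[R] T :=
  lift' (f := fun nm : ℕ × M => (genPoly ℓ nm.2).coeff nm.1)
    (fun m => by simp [genPoly, coeff_zero_eq_eval_zero, eval_prod])
    (fun n r m => by
      have h1 : genPoly ℓ (r • m) = (genPoly ℓ m).comp (C (algebraMap R T r) * X) := by
        simp only [genPoly, prod_comp]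
        refine Finset.prod_congr rfl fun s _ => ?_
        simp only [map_smul, Algebra.smul_def, map_mul, add_comp, one_comp, mul_comp, C_comp,
          X_comp]
        ring
      simp only [h1, comp_C_mul_X_coeff, Algebra.smul_def, map_pow]
      ring)
    (fun n p m => by
      have h := congrArg (fun q : T[X][X] => (q.coeff n).coeff p) (genPoly_comp_add ℓ hsq m)
      simp only [coeff_mul_C, coeff_map, coeff_C_mul] at h
      rw [← h]
      simp only [comp, eval₂_eq_sum_range, finset_sum_coeff, coeff_C_mul, coeff_X_add_C_pow,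
        coeff_map]
      rw [Finset.sum_congr rfl (g := fun i =>
        if i = n + p then ((n + p).choose n) • (genPoly ℓ m).coeff (n + p) else 0) ?_]
      · rw [Finset.sum_ite_eq']
        split_ifs with hN
        · rfl
        · rw [Finset.mem_range] at hN
          have : (genPoly ℓ m).coeff (n + p) = 0 := by
            by_contra h0
            have : ((genPoly ℓ m).map C).coeff (n + p) ≠ 0 := by
              rw [coeff_map]; simpa using h0
            exact hN (Nat.lt_succ_of_le (le_natDegree_of_ne_zero this))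
          simp [this]
      · intro i _
        rcases lt_or_ge i n with hi | hi
        · rw [Nat.choose_eq_zero_of_lt hi, if_neg (by omega)]
          simp
        · rw [mul_comm (X ^ (i - n)) _, coeff_mul_X_pow', ← C_eq_natCast]
          by_cases hi' : i = n + p
          · subst hi'
            simp [nsmul_eq_mul, mul_comm]
          · rw [if_neg hi']
            rcases lt_or_ge p (i - n) with h2 | h2
            · rw [if_neg (by omega), mul_zero]
            · rw [if_pos h2, coeff_C, if_neg (by omega), mul_zero])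
    (fun n x y => by
      have : genPoly ℓ (x + y) = genPoly ℓ x * genPoly ℓ y := by
        simp only [genPoly, ← Finset.prod_mul_distrib]
        refine Finset.prod_congr rfl fun s _ => ?_
        rw [map_add, map_add]
        have h0 : C (ℓ s x) * C (ℓ s y) = (0 : T[X]) := by rw [← map_mul, hsq, map_zero]
        linear_combination (-1 : T[X]) * X * X * h0
      simp only [this, coeff_mul])

lemma symmLift_dp (ℓ : ι → M →ₗ[R] T) (hsq : ∀ s m m', ℓ s m * ℓ s m' = 0) (n : ℕ) (m : M) :
    symmLift ℓ hsq (dp R n m) = (genPoly ℓ m).coeff n :=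
  lift'_apply_dp _ _ _ _ n m


/-- With `≤` fewer than `d` scalars, `γ_d` of a plane does not span. -/
theorem span_dp_ne_gammaPiece_of_surjective {k : Type u} [Field k] [Algebra R k] [Finite k]
    (g : M →ₗ[R] (Fin 2 → k)) (hg : Function.Surjective g) (d : ℕ) (hd : Cardinal.mk k < d) :
    Submodule.span R (Set.range (dp R d : M → DividedPowerAlgebra R M)) ≠
      PolLaw.gammaPiece R M d := by
  classical
  intro heq
  have := Fintype.ofFinite k
  rw [Cardinal.mk_fintype, Nat.cast_lt] at hd
  obtain ⟨e⟩ : Nonempty (Fin (Fintype.card k) ≃ k) := ⟨(Fintype.equivFin k).symm⟩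
  have hd0 : 0 < d := by omega
  let s₀ : Fin d := ⟨0, hd0⟩
  -- linear forms: `v`, all `u - a v`, and `u`
  let a : Fin d → k := fun s => if h : (s : ℕ) - 1 < Fintype.card k then e ⟨s - 1, h⟩ else 0
  let F : Fin d → (Fin 2 → k) →ₗ[k] k := fun s =>
    if s = s₀ then LinearMap.proj 1 else LinearMap.proj 0 - a s • LinearMap.proj 1
  have hF : ∀ z, ∃ s, F s z = 0 := by
    intro z
    by_cases hz : z 1 = 0
    · exact ⟨s₀, by simp [F, hz]⟩
    · obtain ⟨c, hc⟩ := e.surjective (z 0 / z 1)
      refine ⟨⟨c + 1, by omega⟩, ?_⟩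
      have hne : (⟨c + 1, by omega⟩ : Fin d) ≠ s₀ := by simp [s₀]
      have ha : a ⟨c + 1, by omega⟩ = z 0 / z 1 := by simp [a, ← hc, c.isLt]
      simp [F, if_neg hne, ha, div_mul_cancel₀ _ hz]
  let J : Ideal (MvPolynomial (Fin d) k) :=
    Ideal.span (Set.range fun s => MvPolynomial.X s * MvPolynomial.X s)
  let ℓ : Fin d → M →ₗ[R] MvPolynomial (Fin d) k ⧸ J := fun s =>
    ((Ideal.Quotient.mkₐ R J).toLinearMap.comp
      ((LinearMap.mulRight R (MvPolynomial.X s)).comp
        ((Algebra.linearMap k (MvPolynomial (Fin d) k)).restrictScalars R))).comp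
      (((F s).restrictScalars R).comp g)
  have hℓ : ∀ s m, ℓ s m = Ideal.Quotient.mk J (MvPolynomial.C (F s (g m)) * MvPolynomial.X s) :=
    fun _ _ => rfl
  have hsq : ∀ s m m', ℓ s m * ℓ s m' = 0 := by
    intro s m m'
    rw [hℓ, hℓ, ← map_mul, Ideal.Quotient.eq_zero_iff_mem]
    have : MvPolynomial.X s * MvPolynomial.X s ∈ J := Ideal.subset_span ⟨s, rfl⟩
    convert J.mul_mem_left (MvPolynomial.C (F s (g m)) * MvPolynomial.C (F s (g m'))) this using 1
    ring
  let h := symmLift ℓ hsq
  -- degree `d`
  have htop : ∀ (t : Finset (Fin d)) m, (∏ s ∈ t, (1 + C (ℓ s m) * X)).natDegree ≤ t.card ∧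
      (∏ s ∈ t, (1 + C (ℓ s m) * X)).coeff t.card = ∏ s ∈ t, ℓ s m := by
    intro t m
    induction t using Finset.induction_on with
    | empty => simp
    | @insert s t hs ih =>
      rw [Finset.prod_insert hs, Finset.prod_insert hs, Finset.card_insert_of_notMem hs]
      have h1 : (1 + C (ℓ s m) * X).natDegree ≤ 1 := by
        refine (natDegree_add_le _ _).trans ?_
        simpa using natDegree_C_mul_le (ℓ s m) X |>.trans natDegree_X_le
      refine ⟨(natDegree_mul_le).trans (by omega), ?_⟩
      rw [add_comm t.card 1, coeff_mul_add_eq_of_natDegree_le h1 ih.1, ih.2]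
      simp [coeff_one]
  have hdp : ∀ m, h (dp R d m) = 0 := by
    intro m
    rw [symmLift_dp]
    have := (htop Finset.univ m).2
    rw [Finset.card_univ, Fintype.card_fin] at this
    rw [genPoly, this]
    obtain ⟨s, hs⟩ := hF (g m)
    exact Finset.prod_eq_zero (Finset.mem_univ s) (by simp [hℓ, hs])
  obtain ⟨m₁, hm₁⟩ := hg ![1, 0]
  obtain ⟨m₂, hm₂⟩ := hg ![0, 1]
  have hmem : dp R (d - 1) m₁ * dp R 1 m₂ ∈ PolLaw.gammaPiece R M d :=
    Submodule.subset_span ⟨2, ![d - 1, 1], ![m₁, m₂], by simp; omega, by simp⟩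
  rw [← heq] at hmem
  have hzero : h (dp R (d - 1) m₁ * dp R 1 m₂) = 0 := by
    have : Submodule.span R (Set.range (dp R d)) ≤ LinearMap.ker h.toLinearMap :=
      Submodule.span_le.2 (by rintro _ ⟨m, rfl⟩; simpa using hdp m)
    simpa using this hmem
  -- compute
  have h0 : ℓ s₀ m₁ = 0 := by simp [hℓ, F, hm₁]
  have h1 : ∀ s, s ≠ s₀ → ℓ s m₁ = Ideal.Quotient.mk J (MvPolynomial.X s) := by
    intro s hs; simp [hℓ, F, hm₁, if_neg hs]
  have hc1 : (genPoly ℓ m₁).coeff (d - 1) =
      Ideal.Quotient.mk J (∏ s ∈ Finset.univ.erase s₀, MvPolynomial.X s) := by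
    have := (htop (Finset.univ.erase s₀) m₁).2
    rw [Finset.card_erase_of_mem (Finset.mem_univ _), Finset.card_univ, Fintype.card_fin] at this
    rw [map_prod, genPoly, ← Finset.mul_prod_erase _ _ (Finset.mem_univ s₀), h0]
    simp only [map_zero, zero_mul, add_zero, one_mul, this]
    exact Finset.prod_congr rfl fun s hs => h1 s (Finset.ne_of_mem_erase hs)
  have hc2 : (genPoly ℓ m₂).coeff 1 = ∑ s, ℓ s m₂ := by
    simp only [genPoly]
    induction (Finset.univ : Finset (Fin d)) using Finset.induction_on with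
    | empty => simp [coeff_one]
    | @insert s t hs ih =>
      rw [Finset.prod_insert hs, Finset.sum_insert hs, add_mul, one_mul, coeff_add, ih, add_comm]
      congr 1
      rw [mul_assoc, coeff_C_mul, coeff_X_mul, coeff_zero_eq_eval_zero]
      simp [eval_prod]
  rw [map_mul, symmLift_dp, symmLift_dp, hc1, hc2, Finset.mul_sum,
    Finset.sum_eq_single s₀ ?_ (by simp)] at hzero
  · rw [hℓ, ← map_mul, Ideal.Quotient.eq_zero_iff_mem] at hzero
    have hFs : F s₀ (g m₂) = 1 := by simp [F, hm₂]
    rw [hFs, map_one, one_mul,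
      Finset.prod_erase_mul _ _ (Finset.mem_univ s₀)] at hzero
    have hker : ∀ q ∈ J, MvPolynomial.coeff (∑ s : Fin d, Finsupp.single s 1) q = 0 := by
      intro q hq
      induction hq using Submodule.span_induction with
      | mem x hx =>
        obtain ⟨s, rfl⟩ := hx
        have hv : (∑ t : Fin d, Finsupp.single t 1) s = 1 := by
          simp [Finsupp.finsetSum_apply, Finsupp.single_apply]
        simp only [MvPolynomial.X, MvPolynomial.monomial_mul, MvPolynomial.coeff_monomial, one_mul]
        rw [if_neg]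
        intro hh
        have := DFunLike.congr_fun hh s
        rw [hv] at this
        simp at this
      | zero => simp
      | add x y _ _ hx hy => simp [hx, hy]
      | smul c x hxJ hx =>
        rw [smul_eq_mul, MvPolynomial.coeff_mul]
        refine Finset.sum_eq_zero fun ab hab => ?_
        rw [Finset.HasAntidiagonal.mem_antidiagonal] at hab
        by_contra hne
        have hx' : MvPolynomial.coeff ab.2 x ≠ 0 := fun e => hne (by rw [e, mul_zero])
        obtain ⟨s, hs⟩ : ∃ s, 2 ≤ ab.2 s := exists_two_le_of_mem hxJ hx'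
        have := DFunLike.congr_fun hab s
        simp [Finsupp.finsetSum_apply, Finsupp.single_apply] at this
        omega
    have := hker _ hzero
    have hprod : (∏ s : Fin d, MvPolynomial.X s : MvPolynomial (Fin d) k) =
        MvPolynomial.monomial (∑ s : Fin d, Finsupp.single s 1) 1 := by
      rw [MvPolynomial.monomial_sum_one]
      rfl
    rw [hprod, MvPolynomial.coeff_monomial, if_pos rfl] at this
    exact one_ne_zero this
  · intro s _ hs
    rw [hℓ, ← map_mul, Ideal.Quotient.eq_zero_iff_mem,
      ← Finset.mul_prod_erase _ _ (Finset.mem_erase.2 ⟨hs, Finset.mem_univ s⟩)]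
    have : MvPolynomial.X s * MvPolynomial.X s ∈ J := Ideal.subset_span ⟨s, rfl⟩
    convert J.mul_mem_left ((∏ t ∈ (Finset.univ.erase s₀).erase s, MvPolynomial.X t) *
      MvPolynomial.C (F s (g m₂))) this using 1
    ring
where
  exists_two_le_of_mem {k : Type u} [Field k] {d : ℕ} {x : MvPolynomial (Fin d) k}
    (hx : x ∈ Ideal.span (Set.range fun s : Fin d => MvPolynomial.X s * MvPolynomial.X s))
    {e : Fin d →₀ ℕ} (he : MvPolynomial.coeff e x ≠ 0) : ∃ s, 2 ≤ e s := by
    have hrange : (Set.range fun s : Fin d => MvPolynomial.X s * MvPolynomial.X s :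
        Set (MvPolynomial (Fin d) k)) =
        (fun v => MvPolynomial.monomial v (1 : k)) '' Set.range fun s => Finsupp.single s 2 := by
      rw [← Set.range_comp]
      congr 1
      funext s
      simp [MvPolynomial.X, MvPolynomial.monomial_mul, ← Finsupp.single_add]
    rw [hrange, MvPolynomial.mem_ideal_span_monomial_image] at hx
    obtain ⟨_, ⟨s, rfl⟩, hle⟩ := hx e (MvPolynomial.mem_support_iff.2 he)
    exact ⟨s, by simpa using hle s⟩

theorem card_residueField_or_cyclic {A N : Type u} [CommRing A] [AddCommGroup N] [Module A N]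
    [Module.Finite A N] (d : ℕ)
    (h : Submodule.span A (Set.range (dp A d : N → DividedPowerAlgebra A N)) =
      PolLaw.gammaPiece A N d) (p : Ideal A) [p.IsPrime] :
    (d : Cardinal) ≤ Cardinal.mk p.ResidueField ∨
      ∃ x : LocalizedModule p.primeCompl N,
        Submodule.span (Localization.AtPrime p) {x} = ⊤ := by
  by_contra hcon
  rw [not_or, not_le, not_exists] at hcon
  obtain ⟨hcard, hcyc⟩ := hcon
  have : Finite p.ResidueField :=
    Cardinal.lt_aleph0_iff_finite.1 (hcard.trans (Cardinal.natCast_lt_aleph0))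
  have : Finite (A ⧸ p) := Finite.of_injective _ p.injective_algebraMap_quotient_residueField
  have : p.IsMaximal := Ideal.Quotient.maximal_of_isField _ (Finite.isField_of_domain _)
  letI : Field (A ⧸ p) := Ideal.Quotient.field p
  have hb : Function.Bijective (algebraMap (A ⧸ p) p.ResidueField) :=
    p.bijective_algebraMap_quotient_residueField
  rw [← Cardinal.mk_congr (Equiv.ofBijective _ hb)] at hcard
  let V := N ⧸ (p • ⊤ : Submodule A N)
  rcases le_or_gt (Module.finrank (A ⧸ p) V) 1 with hV | hV
  · obtain ⟨v, hv⟩ := finrank_le_one_iff.1 hV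
    obtain ⟨m₀, rfl⟩ := Submodule.Quotient.mk_surjective _ v
    obtain ⟨r, hr, hrN⟩ := Submodule.exists_sub_one_mem_and_smul_eq_zero_of_fg_of_le_smul p
      (⊤ : Submodule A (N ⧸ Submodule.span A {m₀})) Module.Finite.fg_top (by
        rintro q -
        obtain ⟨m, rfl⟩ := Submodule.Quotient.mk_surjective _ q
        obtain ⟨c, hc⟩ := hv (Submodule.Quotient.mk m)
        obtain ⟨c, rfl⟩ := Ideal.Quotient.mk_surjective c
        have hd : m - c • m₀ ∈ (p • ⊤ : Submodule A N) :=
          (Submodule.Quotient.eq _).1 (hc.symm)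
        have := Submodule.mem_map_of_mem (f := (Submodule.span A {m₀}).mkQ) hd
        rw [Submodule.map_smul'', Submodule.map_top, Submodule.range_mkQ, map_sub, map_smul,
          Submodule.mkQ_apply, Submodule.mkQ_apply] at this
        have h0 : (Submodule.Quotient.mk m₀ : N ⧸ Submodule.span A {m₀}) = 0 :=
          (Submodule.Quotient.mk_eq_zero _).2 (Submodule.mem_span_singleton_self m₀)
        rwa [h0, smul_zero, sub_zero] at this)
    refine hcyc (LocalizedModule.mk m₀ 1) (eq_top_iff.2 fun z _ => ?_)
    have hrp : r ∈ p.primeCompl := fun hmem =>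
      p.ne_top_iff_one.1 (Ideal.IsPrime.ne_top inferInstance)
        (by simpa using p.sub_mem hmem hr)
    induction z using LocalizedModule.induction_on with
    | _ m s =>
      have h1 : r • (Submodule.Quotient.mk m : N ⧸ Submodule.span A {m₀}) = 0 :=
        hrN _ Submodule.mem_top
      rw [← Submodule.Quotient.mk_smul, Submodule.Quotient.mk_eq_zero,
        Submodule.mem_span_singleton] at h1
      obtain ⟨c, hc⟩ := h1
      refine Submodule.mem_span_singleton.2 ⟨Localization.mk c (⟨r, hrp⟩ * s), ?_⟩
      rw [LocalizedModule.mk_smul_mk, mul_one, hc, LocalizedModule.mk_eq]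
      exact ⟨1, by simp [Submonoid.smul_def, smul_smul, mul_comm]⟩
  · obtain ⟨f, hf⟩ : ∃ f : V →ₗ[A ⧸ p] (Fin 2 → A ⧸ p), Function.Surjective f := by
      obtain ⟨v, hv⟩ := exists_linearIndependent_of_le_finrank (show 2 ≤ Module.finrank (A ⧸ p) V from hV)
      let j : (Fin 2 → A ⧸ p) →ₗ[A ⧸ p] V := Fintype.linearCombination (A ⧸ p) v
      obtain ⟨f, hf⟩ := LinearMap.exists_leftInverse_of_injective j
        (LinearMap.ker_eq_bot.2 ((Fintype.linearIndependent_iff'ₛ).1 hv))
      exact ⟨f, fun z => ⟨j z, LinearMap.congr_fun hf z⟩⟩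
    exact span_dp_ne_gammaPiece_of_surjective
      ((f.restrictScalars A).comp (Submodule.mkQ _))
      (hf.comp (Submodule.mkQ_surjective _)) d hcard h

end SpanDpLib
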