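import Mathlib
import Groth.Prelude.Def_SymTen
import Groth.Agent.SpanDpLib.Basic

/-!
`Sym^d` of a projective scheme: covering by basic opens.
-/

universe u

open scoped TensorProduct

namespace SpanDpLib

variable {A B : Type u} [CommRing A] [CommRing B] [Algebra A B]
variable (𝒜 : ℕ → Submodule A B) [GradedAlgebra 𝒜] (d : ℕ)

/-- span of pure tensors of degree `(n, …, n)` -/
noncomputable def Cpc (n : ℕ) : Submodule A (⨂[A] _ : Fin d, B) :=
  Submodule.span A {s | ∃ b : Fin d → B, (∀ i, b i ∈ 𝒜 n) ∧ s = PiTensorProduct.tprod A b}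

/-- the algebra generated by these -/
noncomputable def Calg : Subalgebra A (⨂[A] _ : Fin d, B) :=
  Algebra.adjoin A
    {t | ∃ (k : ℕ) (b : Fin d → B), (∀ i, b i ∈ 𝒜 k) ∧ t = PiTensorProduct.tprod A b}

lemma Cpc_le_Calg (n : ℕ) : Cpc 𝒜 d n ≤ Subalgebra.toSubmodule (Calg 𝒜 d) :=
  Submodule.span_le.2 fun _ ⟨b, hb, hs⟩ => Algebra.subset_adjoin ⟨n, b, hb, hs⟩

/-- projection to degree `(n, …, n)` -/
noncomputable def piProj (n : ℕ) : (⨂[A] _ : Fin d, B) →ₗ[A] (⨂[A] _ : Fin d, B) :=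
  PiTensorProduct.lift ((PiTensorProduct.tprod A).compLinearMap fun _ =>
    (GradedAlgebra.proj 𝒜 n))

lemma piProj_tprod (n : ℕ) (f : Fin d → B) :
    piProj 𝒜 d n (PiTensorProduct.tprod A f) =
      PiTensorProduct.tprod A (fun i => (DirectSum.decompose 𝒜 (f i) n : B)) := by
  simp only [piProj, PiTensorProduct.lift.tprod, MultilinearMap.compLinearMap_apply]
  rfl

lemma piProj_mem (n : ℕ) (z : ⨂[A] _ : Fin d, B) : piProj 𝒜 d n z ∈ Cpc 𝒜 d n := by
  induction z using PiTensorProduct.induction_on with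
  | smul_tprod r f =>
    rw [map_smul, piProj_tprod]
    exact Submodule.smul_mem _ _ (Submodule.subset_span ⟨_, fun i => SetLike.coe_mem _, rfl⟩)
  | add x y hx hy => rw [map_add]; exact add_mem hx hy

lemma piProj_of_mem {n : ℕ} {z : ⨂[A] _ : Fin d, B} (hz : z ∈ Cpc 𝒜 d n) :
    piProj 𝒜 d n z = z := by
  induction hz using Submodule.span_induction with
  | mem x hx =>
    obtain ⟨b, hb, rfl⟩ := hx
    rw [piProj_tprod]
    congr 1
    funext i
    rw [DirectSum.decompose_of_mem_same 𝒜 (hb i)]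
  | zero => simp
  | add x y _ _ hx hy => rw [map_add, hx, hy]
  | smul c x _ hx => rw [map_smul, hx]

lemma piProj_mul_mem (hd : 0 < d) {n : ℕ} {x : ⨂[A] _ : Fin d, B} (hx : x ∈ Cpc 𝒜 d n) (N : ℕ)
    (c : ⨂[A] _ : Fin d, B) :
    piProj 𝒜 d N (c * x) = if n ≤ N then piProj 𝒜 d (N - n) c * x else 0 := by
  induction hx using Submodule.span_induction with
  | zero => simp
  | add x y _ _ hx hy => rw [mul_add, map_add, hx, hy, mul_add]; split_ifs <;> simp
  | smul r x _ hx => rw [mul_smul_comm, map_smul, hx, mul_smul_comm]; split_ifs <;> simp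
  | mem x hx =>
    obtain ⟨b, hb, rfl⟩ := hx
    induction c using PiTensorProduct.induction_on with
    | add u v hu hv =>
      rw [add_mul, map_add, hu, hv, map_add, add_mul]
      split_ifs <;> simp
    | smul_tprod r f =>
      rw [smul_mul_assoc, map_smul, map_smul, PiTensorProduct.tprod_mul_tprod, piProj_tprod,
        piProj_tprod, smul_mul_assoc, PiTensorProduct.tprod_mul_tprod]
      split_ifs with h
      · congr 2
        funext i
        simp only [Pi.mul_apply]
        rw [DirectSum.coe_decompose_mul_of_right_mem_of_le 𝒜 (hb i) h]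
      · rw [(PiTensorProduct.tprod A).map_coord_zero (i := ⟨0, hd⟩), smul_zero]
        simp only [Pi.mul_apply]
        rw [DirectSum.coe_decompose_mul_of_right_mem_of_not_le 𝒜 (hb _) h]

lemma pow_mem_Cpc {k : ℕ} {t : ⨂[A] _ : Fin d, B} (ht : t ∈ Cpc 𝒜 d k) (m : ℕ) :
    t ^ m ∈ Cpc 𝒜 d (k * m) := by
  induction m with
  | zero =>
    rw [pow_zero, mul_zero]
    exact Submodule.subset_span ⟨1, fun _ => SetLike.one_mem_graded 𝒜, PiTensorProduct.one_def⟩
  | succ m ih =>
    rw [pow_succ, Nat.mul_succ]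
    have := Submodule.mul_mem_mul ih ht
    refine Submodule.mul_le.2 ?_ this
    intro a ha b hb
    induction ha using Submodule.span_induction with
    | zero => simp
    | add u v _ _ hu hv => rw [add_mul]; exact add_mem hu hv
    | smul c u _ hu => rw [smul_mul_assoc]; exact Submodule.smul_mem _ _ hu
    | mem u hu =>
      obtain ⟨f, hf, rfl⟩ := hu
      induction hb using Submodule.span_induction with
      | zero => simp
      | add v w _ _ hv hw => rw [mul_add]; exact add_mem hv hw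
      | smul c v _ hv => rw [mul_smul_comm]; exact Submodule.smul_mem _ _ hv
      | mem v hv =>
        obtain ⟨g, hg, rfl⟩ := hv
        rw [PiTensorProduct.tprod_mul_tprod]
        exact Submodule.subset_span ⟨_, fun i => SetLike.mul_mem_graded (hf i) (hg i), rfl⟩

lemma perm_perm (σ τ : Equiv.Perm (Fin d)) (z : ⨂[A] _ : Fin d, B) :
    SymTen.perm A B d τ (SymTen.perm A B d σ z) = SymTen.perm A B d (τ * σ) z := by
  induction z using PiTensorProduct.induction_on with
  | smul_tprod r f =>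
    simp only [map_smul, SymTen.perm_tprod]
    rfl
  | add x y hx hy => simp [hx, hy]

lemma perm_mem_Calg (σ : Equiv.Perm (Fin d)) {z : ⨂[A] _ : Fin d, B} (hz : z ∈ Calg 𝒜 d) :
    SymTen.perm A B d σ z ∈ Calg 𝒜 d := by
  induction hz using Algebra.adjoin_induction with
  | mem x hx =>
    obtain ⟨k, b, hb, rfl⟩ := hx
    rw [SymTen.perm_tprod]
    exact Algebra.subset_adjoin ⟨k, _, fun i => hb _, rfl⟩
  | algebraMap r => rw [AlgHom.commutes]; exact Subalgebra.algebraMap_mem _ r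
  | add x y _ _ hx hy => rw [map_add]; exact add_mem hx hy
  | mul x y _ _ hx hy => rw [map_mul]; exact mul_mem hx hy

/-- Reduction to primes of the tensor power. -/
theorem pow_mem_span_of_primes (D : Subalgebra A (⨂[A] _ : Fin d, B))
    (hD : D = Calg 𝒜 d ⊓ SymTen.TS A B d)
    {k : ℕ} {t : ⨂[A] _ : Fin d, B} (htD : t ∈ D) (htk : t ∈ Cpc 𝒜 d k) (hd : 0 < d)
    (S : Set (⨂[A] _ : Fin d, B)) (hSdeg : ∀ x ∈ S, ∃ n, x ∈ Cpc 𝒜 d n)
    (hSsym : ∀ x ∈ S, x ∈ SymTen.TS A B d)
    (h : ∀ Q : Ideal (⨂[A] _ : Fin d, B), Q.IsPrime → S ⊆ Q → t ∈ Q) :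
    ∃ m : ℕ, 0 < m ∧ (⟨t, htD⟩ : D) ^ m ∈
      Ideal.span {x : D | (x : ⨂[A] _ : Fin d, B) ∈ S} := by
  classical
  obtain ⟨m, hm⟩ : t ∈ (Ideal.span S).radical := by
    rw [Ideal.radical_eq_sInf, Submodule.mem_sInf]
    exact fun Q hQ => h Q hQ.2 (Ideal.span_le.1 hQ.1)
  have hm' : t ^ (m + 1) ∈ Ideal.span S := Ideal.pow_mem_of_pow_mem (I := Ideal.span S) (ha := hm) (h := Nat.le_succ m)
  -- coefficients can be taken in `Calg`
  have hC : t ^ (m + 1) ∈ Submodule.span (Calg 𝒜 d) S := by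
    have hall : ∀ z ∈ Ideal.span S, ∀ N c, piProj 𝒜 d N (c * z) ∈ Submodule.span (Calg 𝒜 d) S := by
      intro z hz
      induction hz using Submodule.span_induction with
      | mem x hx =>
        intro N c
        obtain ⟨n, hn⟩ := hSdeg x hx
        rw [piProj_mul_mem 𝒜 d hd hn]
        split_ifs
        · exact Submodule.smul_mem _ (⟨_, Cpc_le_Calg 𝒜 d _ (piProj_mem 𝒜 d _ c)⟩ : Calg 𝒜 d)
            (Submodule.subset_span hx)
        · exact zero_mem _
      | zero => simp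
      | add a b _ _ ha hb => intro N c; rw [mul_add, map_add]; exact add_mem (ha N c) (hb N c)
      | smul r a _ ha => intro N c; rw [smul_eq_mul, ← mul_assoc]; exact ha N _
    have := hall _ hm' (k * (m + 1)) 1
    rwa [one_mul, piProj_of_mem 𝒜 d (pow_mem_Cpc 𝒜 d htk _)] at this
  obtain ⟨r, c, x, hsum⟩ := Submodule.mem_span_set'.1 hC
  -- symmetrise
  let σC : Equiv.Perm (Fin d) → Calg 𝒜 d →ₐ[A] Calg 𝒜 d := fun σ =>
    ((SymTen.perm A B d σ).comp (Calg 𝒜 d).val).codRestrict _ fun z => perm_mem_Calg 𝒜 d σ z.2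
  let P : MvPolynomial (Fin r) (Calg 𝒜 d) :=
    ∏ σ, ∑ l, MvPolynomial.C (σC σ (c l)) * MvPolynomial.X l
  have hxfix : ∀ σ (l : Fin r), SymTen.perm A B d σ (x l : ⨂[A] _ : Fin d, B) = x l := fun σ l => by
    rw [SymTen.perm_apply]; exact hSsym _ (x l).2 σ
  have hinv : ∀ τ, MvPolynomial.map (σC τ).toRingHom P = P := by
    intro τ
    simp only [P, map_prod, map_sum, map_mul, MvPolynomial.map_C, MvPolynomial.map_X]
    refine Fintype.prod_equiv (Equiv.mulLeft τ) _ _ fun σ => ?_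
    refine Finset.sum_congr rfl fun l _ => ?_
    congr 2
    exact Subtype.ext (perm_perm d σ τ _)
  have hcoeff : ∀ e, ((P.coeff e : Calg 𝒜 d) : ⨂[A] _ : Fin d, B) ∈ D := by
    intro e
    rw [hD]
    refine ⟨(P.coeff e).2, fun τ => ?_⟩
    rw [← SymTen.perm_apply]
    have := congrArg (fun q : MvPolynomial (Fin r) (Calg 𝒜 d) => ((q.coeff e : Calg 𝒜 d) : ⨂[A] _ : Fin d, B))
      (hinv τ)
    simpa [MvPolynomial.coeff_map, σC] using this
  have hxD : ∀ l, (x l : ⨂[A] _ : Fin d, B) ∈ D := fun l => by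
    obtain ⟨n, hn⟩ := hSdeg _ (x l).2
    rw [hD]
    exact ⟨Cpc_le_Calg 𝒜 d n hn, hSsym _ (x l).2⟩
  have heval : MvPolynomial.eval₂ (Calg 𝒜 d).val.toRingHom (fun l => (x l : ⨂[A] _ : Fin d, B)) P =
      t ^ ((m + 1) * Fintype.card (Equiv.Perm (Fin d))) := by
    rw [pow_mul, ← hsum, ← MvPolynomial.coe_eval₂Hom]
    simp only [P, map_prod, map_sum, map_mul, MvPolynomial.eval₂Hom_C, MvPolynomial.eval₂Hom_X']
    rw [← Finset.card_univ, ← Finset.prod_const]
    refine Finset.prod_congr rfl fun σ _ => ?_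
    have htfix : SymTen.perm A B d σ t = t := by
      rw [SymTen.perm_apply]
      have := htD
      rw [hD] at this
      exact this.2 σ
    calc ∑ l, ((σC σ (c l) : Calg 𝒜 d) : ⨂[A] _ : Fin d, B) * x l
        = SymTen.perm A B d σ (∑ l, c l • (x l : ⨂[A] _ : Fin d, B)) := by
          rw [map_sum]
          refine Finset.sum_congr rfl fun l _ => ?_
          rw [Subalgebra.smul_def, smul_eq_mul, map_mul, hxfix]
          rfl
      _ = ∑ l, c l • (x l : ⨂[A] _ : Fin d, B) := by rw [hsum, map_pow, htfix]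
  refine ⟨(m + 1) * Fintype.card (Equiv.Perm (Fin d)),
    Nat.mul_pos (Nat.succ_pos _) Fintype.card_pos, ?_⟩
  let I := Ideal.span {z : D | (z : ⨂[A] _ : Fin d, B) ∈ S}
  suffices ∃ w ∈ I, (w : ⨂[A] _ : Fin d, B) = t ^ ((m + 1) * Fintype.card (Equiv.Perm (Fin d))) by
    obtain ⟨w, hw, hwt⟩ := this
    convert hw
    exact Subtype.ext (by rw [SubmonoidClass.coe_pow, hwt])
  refine ⟨∑ e ∈ P.support, ⟨_, hcoeff e⟩ * ∏ l, (⟨_, hxD l⟩ : D) ^ e l, ?_, ?_⟩
  · refine Ideal.sum_mem _ fun e he => ?_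
    have hP0 : P.coeff 0 = 0 := by
      rw [← MvPolynomial.constantCoeff_eq]
      simp [P, map_prod]
    obtain ⟨l, hl⟩ : ∃ l, e l ≠ 0 := by
      by_contra hne
      push Not at hne
      have : e = 0 := Finsupp.ext hne
      exact MvPolynomial.mem_support_iff.1 he (this ▸ hP0)
    refine Ideal.mul_mem_left _ _ (Ideal.mem_of_dvd _ (Finset.dvd_prod_of_mem _ (Finset.mem_univ l)) ?_)
    exact Ideal.pow_mem_of_mem I (Ideal.subset_span (show (⟨(x l).1, hxD l⟩ : D) ∈ {z : D | (z : ⨂[A] _ : Fin d, B) ∈ S} from (x l).2)) _ (Nat.pos_of_ne_zero hl)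
  · rw [← heval, MvPolynomial.eval₂_eq']
    push_cast
    rfl

/-- the `i`-th slot, read in `T / Q` -/
noncomputable def slot (Q : Ideal (⨂[A] _ : Fin d, B)) (i : Fin d) :
    B →ₐ[A] (⨂[A] _ : Fin d, B) ⧸ Q :=
  (Ideal.Quotient.mkₐ A Q).comp (PiTensorProduct.singleAlgHom (R := A) (A := fun _ : Fin d => B) i)

lemma mk_tprod (Q : Ideal (⨂[A] _ : Fin d, B)) (f : Fin d → B) :
    Ideal.Quotient.mk Q (PiTensorProduct.tprod A f) = ∏ i, slot d Q i (f i) := by
  have : PiTensorProduct.tprod A f =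
      ∏ i, (PiTensorProduct.singleAlgHom (R := A) (A := fun _ : Fin d => B) i (f i)) := by
    have : ∀ s : Finset (Fin d), (∏ i ∈ s,
        (PiTensorProduct.singleAlgHom (R := A) (A := fun _ : Fin d => B) i (f i))) =
        PiTensorProduct.tprod A (fun i => if i ∈ s then f i else 1) := by
      intro s
      induction s using Finset.induction_on with
      | empty => simp [PiTensorProduct.one_def]; rfl
      | @insert a s ha ih =>
        rw [Finset.prod_insert ha, ih, PiTensorProduct.singleAlgHom_apply,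
          PiTensorProduct.tprod_mul_tprod]
        congr 1
        funext i
        simp only [Pi.mul_apply]
        rcases eq_or_ne i a with rfl | hi
        · simp [ha]
        · simp [hi, Pi.mulSingle_eq_of_ne hi]
    simpa using (this Finset.univ).symm
  rw [this, map_prod]
  exact Finset.prod_congr rfl fun i _ => rfl

lemma eq_zero_of_degOne (hgen : Algebra.adjoin A (𝒜 1 : Set B) = ⊤) {R : Type u} [CommRing R]
    [Algebra A R] (y : B →ₐ[A] R) (hy : ∀ b ∈ 𝒜 1, y b = 0) {k : ℕ} (hk : 0 < k) {b : B}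
    (hb : b ∈ 𝒜 k) : y b = 0 := by
  have h : ∀ z : B, y z = y (DirectSum.decompose 𝒜 z 0 : B) := by
    intro z
    have hz : z ∈ Algebra.adjoin A (𝒜 1 : Set B) := hgen ▸ Algebra.mem_top
    induction hz using Algebra.adjoin_induction with
    | mem w hw =>
      rw [DirectSum.decompose_of_mem_ne 𝒜 hw (by omega), hy w hw, map_zero]
    | algebraMap r => rw [DirectSum.decompose_of_mem_same 𝒜 (SetLike.algebraMap_mem_graded 𝒜 r)]
    | add u v _ _ hu hv =>
      rw [map_add, hu, hv, ← map_add, DirectSum.decompose_add]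
      rfl
    | mul u v _ _ hu hv =>
      have := map_mul (GradedRing.projZeroRingHom 𝒜) u v
      simp only [GradedRing.projZeroRingHom_apply] at this
      rw [map_mul, hu, hv, ← map_mul]
      exact congrArg y this.symm
  rw [h, DirectSum.decompose_of_mem_ne 𝒜 hb (by omega), map_zero]

lemma mem_of_slot_eq_zero (hgen : Algebra.adjoin A (𝒜 1 : Set B) = ⊤)
    (Q : Ideal (⨂[A] _ : Fin d, B)) (i : Fin d) (hy : ∀ b ∈ 𝒜 1, slot d Q i b = 0)
    {k : ℕ} (hk : 0 < k) {t : ⨂[A] _ : Fin d, B} (htk : t ∈ Cpc 𝒜 d k) : t ∈ Q := by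
  refine (Submodule.span_le (p := Q.restrictScalars A)).2 ?_ htk
  rintro _ ⟨b, hb, rfl⟩
  rw [SetLike.mem_coe, Submodule.restrictScalars_mem, ← Ideal.Quotient.eq_zero_iff_mem, mk_tprod]
  exact Finset.prod_eq_zero (Finset.mem_univ i) (eq_zero_of_degOne 𝒜 hgen _ hy hk (hb i))

section Avoid

variable {R : Type u} [CommRing R] [IsDomain R] [Algebra A R] {ι : Type*} (y : ι → B →ₐ[A] R)

theorem exists_homogeneous_ne_zero (hy : ∀ i, ∃ b ∈ 𝒜 1, y i b ≠ 0) (s : Finset ι) :
    ∃ n, 0 < n ∧ ∃ f ∈ 𝒜 n, ∀ i ∈ s, y i f ≠ 0 := by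
  classical
  induction s using Finset.strongInduction with
  | H s ih =>
    rcases s.eq_empty_or_nonempty with rfl | ⟨i, hi⟩
    · exact ⟨1, one_pos, 0, zero_mem _, by simp⟩
    by_cases hs : s = {i}
    · obtain ⟨b, hb, hb'⟩ := hy i
      exact ⟨1, one_pos, b, hb, by simp [hs, hb']⟩
    by_contra hcon
    push Not at hcon
    choose n hn f hf hf' using fun j : s => ih (s.erase j.1) (Finset.erase_ssubset j.2)
    have hzero : ∀ j : s, y j.1 (f j) = 0 := by
      intro j
      obtain ⟨l, hl, hl'⟩ := hcon (n j) (hn j) (f j) (hf j)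
      have : l = j.1 := by
        by_contra hne
        exact hf' j l (Finset.mem_erase.2 ⟨hne, hl⟩) hl'
      exact this ▸ hl'
    let i' : s := ⟨i, hi⟩
    let o := Finset.univ.erase i'
    have ho : o.Nonempty := by
      obtain ⟨j, hj, hji⟩ : ∃ j ∈ s, j ≠ i := by
        by_contra h
        push Not at h
        exact hs (Finset.eq_singleton_iff_unique_mem.2 ⟨hi, h⟩)
      exact ⟨⟨j, hj⟩, Finset.mem_erase.2 ⟨fun h => hji (congrArg Subtype.val h), Finset.mem_univ _⟩⟩
    let N := ∑ j ∈ o, n j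
    have hN : 0 < N := Finset.sum_pos (fun j _ => hn j) ho
    have hP : ∏ j ∈ o, f j ∈ 𝒜 N := SetLike.prod_mem_graded 𝒜 n f (fun j _ => hf j)
    have h1 : f i' ^ N ∈ 𝒜 (N • n i') := SetLike.pow_mem_graded N (hf i')
    have h2 : (∏ j ∈ o, f j) ^ n i' ∈ 𝒜 (n i' • N) := SetLike.pow_mem_graded _ hP
    obtain ⟨l, hl, hl'⟩ := hcon (N • n i') (by simpa [smul_eq_mul] using Nat.mul_pos hN (hn i'))
      (f i' ^ N + (∏ j ∈ o, f j) ^ n i')
      (add_mem h1 (by rwa [smul_eq_mul, mul_comm, ← smul_eq_mul] at h2))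
    rw [map_add, map_pow, map_pow, map_prod] at hl'
    rcases eq_or_ne l i with rfl | hli
    · rw [hzero i', zero_pow hN.ne', zero_add] at hl'
      obtain ⟨j, hj, hj'⟩ := Finset.prod_eq_zero_iff.1 (eq_zero_of_pow_eq_zero hl')
      exact hf' j l (Finset.mem_erase.2 ⟨fun h => (Finset.mem_erase.1 hj).1 (Subtype.ext h.symm), hi⟩) hj'
    · rw [Finset.prod_eq_zero (i := ⟨l, hl⟩)
        (Finset.mem_erase.2 ⟨fun h => hli (congrArg Subtype.val h), Finset.mem_univ _⟩)
        (hzero ⟨l, hl⟩), zero_pow (hn i').ne', add_zero] at hl'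
      exact hf' i' l (Finset.mem_erase.2 ⟨hli, hl⟩) (eq_zero_of_pow_eq_zero hl')

theorem exists_degOne_ne_zero (hy : ∀ i, ∃ b ∈ 𝒜 1, y i b ≠ 0) {d : ℕ}
    (hres : ∀ p : PrimeSpectrum A, (d : Cardinal) ≤ Cardinal.mk p.asIdeal.ResidueField)
    (s : Finset ι) (hs : s.card ≤ d) : ∃ f ∈ 𝒜 1, ∀ i ∈ s, y i f ≠ 0 := by
  classical
  induction s using Finset.induction_on with
  | empty => exact ⟨0, zero_mem _, by simp⟩
  | @insert i s hi ih =>
    rw [Finset.card_insert_of_notMem hi] at hs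
    obtain ⟨f, hf, hf'⟩ := ih (by omega)
    by_cases hfi : y i f = 0
    · obtain ⟨g, hg, hg'⟩ := hy i
      have hpr : (RingHom.ker (algebraMap A R)).IsPrime := RingHom.ker_isPrime _
      obtain ⟨a, ha⟩ := @exists_sub_notMem A _ (RingHom.ker (algebraMap A R)) hpr d
        (hres ⟨RingHom.ker (algebraMap A R), hpr⟩)
      by_contra hcon
      push Not at hcon
      have hbad : ∀ l : Fin d, ∃ j ∈ s, y j (g + a l • f) = 0 := by
        intro l
        obtain ⟨j, hj, hj'⟩ := hcon (g + a l • f) (add_mem hg (Submodule.smul_mem _ _ hf))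
        rcases Finset.mem_insert.1 hj with rfl | hj
        · rw [map_add, map_smul, hfi, smul_zero, add_zero] at hj'
          exact absurd hj' hg'
        · exact ⟨j, hj, hj'⟩
      choose J hJ hJ' using hbad
      have hinj : Function.Injective J := by
        intro l l' hll
        by_contra hne
        refine ha l l' hne (RingHom.mem_ker.2 ?_)
        have e1 := hJ' l
        have e2 := hJ' l'
        rw [← hll] at e2
        rw [map_add, map_smul, Algebra.smul_def] at e1 e2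
        have : algebraMap A R (a l - a l') * y (J l) f = 0 := by
          rw [map_sub]; linear_combination e1 - e2
        exact (mul_eq_zero.1 this).resolve_right (hf' _ (hJ l))
      have := Finset.card_le_card_of_injOn J (s := Finset.univ) (t := s)
        (fun l _ => hJ l) hinj.injOn
      simp at this
      omega
    · exact ⟨f, hf, fun j hj => by
        rcases Finset.mem_insert.1 hj with rfl | hj
        exacts [hfi, hf' j hj]⟩

end Avoid

/-- sum of the pure tensors in generators with given multiplicities -/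
noncomputable def orbitSum {n : ℕ} (b : Fin n → B) (μ : Fin n →₀ ℕ) : ⨂[A] _ : Fin d, B :=
  ∑ w ∈ Finset.univ.filter (fun w : Fin d → Fin n => (∑ i, Finsupp.single (w i) 1) = μ),
    PiTensorProduct.tprod A (fun i => b (w i))

lemma orbitSum_mem_TS {n : ℕ} (b : Fin n → B) (μ : Fin n →₀ ℕ) :
    orbitSum (A := A) d b μ ∈ SymTen.TS A B d := by
  classical
  intro σ
  rw [← SymTen.perm_apply, orbitSum, map_sum]
  refine Finset.sum_equiv (Equiv.arrowCongr σ (Equiv.refl _)) (fun w => ?_) (fun w _ => ?_)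
  · simp only [Finset.mem_filter, Finset.mem_univ, true_and, Equiv.arrowCongr_apply,
      Equiv.coe_refl, Function.comp_apply, id_eq]
    rw [Equiv.sum_comp σ.symm (fun i => Finsupp.single (w i) 1)]
  · rw [SymTen.perm_tprod]
    rfl

theorem exists_orbitSum_notMem (hfg : (𝒜 1).FG) (Q : Ideal (⨂[A] _ : Fin d, B)) [Q.IsPrime]
    (hy : ∀ i, ∃ b ∈ 𝒜 1, slot d Q i b ≠ 0) :
    ∃ x, x ∈ Cpc 𝒜 d 1 ∧ x ∈ SymTen.TS A B d ∧ x ∉ Q := by
  classical
  obtain ⟨n, b, hb⟩ := Submodule.fg_iff_exists_fin_generating_family.1 hfg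
  have hb1 : ∀ a, b a ∈ 𝒜 1 := fun a => hb ▸ Submodule.subset_span ⟨a, rfl⟩
  let P : MvPolynomial (Fin n) ((⨂[A] _ : Fin d, B) ⧸ Q) :=
    ∏ i, ∑ a, MvPolynomial.monomial (Finsupp.single a 1) (slot d Q i (b a))
  have hP : P ≠ 0 := by
    refine Finset.prod_ne_zero_iff.2 fun i _ h0 => ?_
    obtain ⟨c, hc, hc'⟩ := hy i
    rw [← hb] at hc
    refine hc' ?_
    have hall : ∀ a, slot d Q i (b a) = 0 := fun a => by
      have := congrArg (MvPolynomial.coeff (Finsupp.single a 1)) h0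
      simpa [MvPolynomial.coeff_sum, MvPolynomial.coeff_monomial, Finsupp.single_left_inj] using this
    exact (Submodule.span_le (p := LinearMap.ker (slot d Q i).toLinearMap)).2
      (by rintro _ ⟨a, rfl⟩; exact hall a) hc
  obtain ⟨μ, hμ⟩ := MvPolynomial.ne_zero_iff.1 hP
  refine ⟨orbitSum d b μ, Submodule.sum_mem _ fun w _ =>
    Submodule.subset_span ⟨_, fun i => hb1 _, rfl⟩, orbitSum_mem_TS d b μ, fun hmem => hμ ?_⟩
  rw [← Ideal.Quotient.eq_zero_iff_mem, orbitSum, map_sum] at hmem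
  simp only [mk_tprod] at hmem
  simp only [P, Fintype.prod_sum, ← MvPolynomial.monomial_sum_prod, MvPolynomial.coeff_sum,
    MvPolynomial.coeff_monomial]
  rw [← Finset.sum_filter]
  exact hmem

end SpanDpLib
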